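/-
Helper1: prime graph of a semidirect product `A ⋊ S`, `A` an elementary abelian 2-group on which
every element of `S` with a nonzero fixed point has order dividing 4.
-/
import Mathlib

set_option autoImplicit false

namespace Cfsg.Agent.Lib.Helper1.PGraph

open SemidirectProduct

variable {S : Type*} [Group S] {A : Type*} [AddCommGroup A] [DistribMulAction S A]

/-- the action of `S` on `Multiplicative A` by automorphisms -/
noncomputable abbrev phi (S : Type*) [Group S] (A : Type*) [AddCommGroup A] [DistribMulAction S A] :
    S →* MulAut (Multiplicative A) :=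
  (MulAutMultiplicative A).symm.toMonoidHom.comp (DistribMulAction.toAddAut S A)

theorem phi_apply (g : S) (b : Multiplicative A) :
    phi S A g b = Multiplicative.ofAdd (g • Multiplicative.toAdd b) := rfl

/-- the semidirect product -/
abbrev Semi (S : Type*) [Group S] (A : Type*) [AddCommGroup A] [DistribMulAction S A] : Type _ :=
  Multiplicative A ⋊[phi S A] S

theorem right_pow (y : Semi S A) (n : ℕ) : (y ^ n).right = y.right ^ n := by
  have := map_pow (rightHom : Semi S A →* S) y n
  simpa using this

theorem orderOf_right_dvd (y : Semi S A) : orderOf y.right ∣ orderOf y := by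
  have := orderOf_map_dvd (rightHom : Semi S A →* S) y
  simpa using this

theorem eq_inl_of_right_eq_one {z : Semi S A} (h : z.right = 1) : z = inl z.left := by
  ext
  · simp
  · simp [h]

/-- the left component of `y ^ orderOf y.right` is fixed by `y.right` -/
theorem fixed_left (y : Semi S A) :
    y.right • Multiplicative.toAdd (y ^ orderOf y.right).left
      = Multiplicative.toAdd (y ^ orderOf y.right).left := by
  set n := orderOf y.right with hn
  have hr : (y ^ n).right = 1 := by rw [right_pow, hn, pow_orderOf_eq_one]
  have hz : y ^ n = inl (y ^ n).left := eq_inl_of_right_eq_one hr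
  set b := (y ^ n).left with hb
  have hc : y * inl b = inl b * y := by
    rw [← hz]
    exact (pow_succ' y n).symm.trans (pow_succ y n)
  have h1 := congrArg SemidirectProduct.left hc
  rw [mul_left, mul_left] at h1
  simp only [left_inl, right_inl, map_one, MulAut.one_apply] at h1
  have h2 : phi S A y.right b = b := by
    have : y.left * phi S A y.right b = y.left * b := by rw [h1, mul_comm]
    exact mul_left_cancel this
  rw [phi_apply] at h2
  have := congrArg Multiplicative.toAdd h2
  simpa using this

variable (hexp : ∀ a : A, a + a = 0)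
  (hfix : ∀ (g : S) (a : A), a ≠ 0 → g • a = a → orderOf g ∣ 4)

include hfix in
/-- either the `S`-component has order dividing `4`, or the order is that of the `S`-component -/
theorem order_dichotomy [Finite S] (y : Semi S A) :
    orderOf y.right ∣ 4 ∨ orderOf y = orderOf y.right := by
  by_cases hb : Multiplicative.toAdd (y ^ orderOf y.right).left = 0
  · right
    apply Nat.dvd_antisymm _ (orderOf_right_dvd y)
    apply orderOf_dvd_of_pow_eq_one
    have hr : (y ^ orderOf y.right).right = 1 := by rw [right_pow, pow_orderOf_eq_one]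
    rw [eq_inl_of_right_eq_one hr]
    have : (y ^ orderOf y.right).left = 1 := by
      have := congrArg Multiplicative.ofAdd hb
      simpa using this
    rw [this, map_one]
  · left
    exact hfix _ _ hb (fixed_left y)

include hexp in
theorem pow_two_mul (y : Semi S A) : y ^ (2 * orderOf y.right) = 1 := by
  have hr : (y ^ orderOf y.right).right = 1 := by rw [right_pow, pow_orderOf_eq_one]
  rw [mul_comm, pow_mul, eq_inl_of_right_eq_one hr, ← map_pow]
  have : (y ^ orderOf y.right).left ^ 2 = 1 := by
    rw [pow_two]
    have := hexp (Multiplicative.toAdd (y ^ orderOf y.right).left)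
    exact congrArg Multiplicative.ofAdd this
  rw [this, map_one]

include hexp hfix in
/-- elements whose order is a product of two distinct primes come from `S` -/
theorem exists_of_order [Finite S] {r s : ℕ} (hr : r.Prime) (hs : s.Prime) (hrs : r ≠ s)
    (y : Semi S A) (hy : orderOf y = r * s) : ∃ x : S, orderOf x = r * s := by
  rcases order_dichotomy hfix y with h | h
  · exfalso
    have h1 : r * s ∣ 2 * orderOf y.right := by
      rw [← hy]; exact orderOf_dvd_of_pow_eq_one (pow_two_mul hexp y)
    have h2 : r * s ∣ 8 := h1.trans (by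
      have : 2 * orderOf y.right ∣ 2 * 4 := Nat.mul_dvd_mul_left 2 h
      simpa using this)
    have hr2 : r = 2 := by
      have : r ∣ 2 ^ 3 := (Dvd.intro _ rfl : r ∣ r * s).trans (by simpa using h2)
      exact (Nat.prime_dvd_prime_iff_eq hr Nat.prime_two).mp (hr.dvd_of_dvd_pow this)
    have hs2 : s = 2 := by
      have : s ∣ 2 ^ 3 := (Dvd.intro_left _ rfl : s ∣ r * s).trans (by simpa using h2)
      exact (Nat.prime_dvd_prime_iff_eq hs Nat.prime_two).mp (hs.dvd_of_dvd_pow this)
    exact hrs (hr2.trans hs2.symm)
  · exact ⟨y.right, by rw [← h, hy]⟩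

theorem exists_of_order' {n : ℕ} (x : S) (hx : orderOf x = n) : ∃ y : Semi S A, orderOf y = n :=
  ⟨inr x, by rw [orderOf_injective (inr : S →* Semi S A) inr_injective, hx]⟩

include hexp in
theorem card_left_pow [Finite A] : ∃ j : ℕ, Nat.card (Multiplicative A) = 2 ^ j := by
  have : Fact (Nat.Prime 2) := ⟨Nat.prime_two⟩
  apply IsPGroup.exists_card_eq (p := 2)
  intro b
  refine ⟨1, ?_⟩
  rw [pow_one, pow_two]
  exact congrArg Multiplicative.ofAdd (hexp (Multiplicative.toAdd b))

include hexp in
/-- the prime divisors of the order are those of `S` -/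
theorem prime_dvd_iff [Finite A] (h2 : 2 ∣ Nat.card S) {r : ℕ} (hr : r.Prime) :
    r ∣ Nat.card S ↔ r ∣ Nat.card (Semi S A) := by
  rw [SemidirectProduct.card]
  constructor
  · intro h; exact Dvd.dvd.mul_left h _
  · intro h
    rcases (Nat.Prime.dvd_mul hr).mp h with h | h
    · obtain ⟨j, hj⟩ := card_left_pow (A := A) hexp
      rw [hj] at h
      have : r = 2 := (Nat.prime_dvd_prime_iff_eq hr Nat.prime_two).mp (hr.dvd_of_dvd_pow h)
      rw [this]; exact h2
    · exact h

include hexp hfix in
/-- the prime graph statement, for the semidirect product itself -/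
theorem same_graph [Finite S] [Finite A] (h2 : 2 ∣ Nat.card S) :
    (∀ r : ℕ, r.Prime → (r ∣ Nat.card S ↔ r ∣ Nat.card (Semi S A))) ∧
    (∀ r s : ℕ, r.Prime → s.Prime → r ≠ s →
      ((∃ x : S, orderOf x = r * s) ↔ (∃ y : Semi S A, orderOf y = r * s))) := by
  refine ⟨fun r hr => prime_dvd_iff hexp h2 hr, fun r s hr hs hrs => ⟨?_, ?_⟩⟩
  · rintro ⟨x, hx⟩; exact exists_of_order' x hx
  · rintro ⟨y, hy⟩; exact exists_of_order hexp hfix hr hs hrs y hy

end Cfsg.Agent.Lib.Helper1.PGraph
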