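/-
Helper1: in the Suzuki group (helper3's model `Gam T`, and the matrix group `Lie.Sz`) an element
fixing a nonzero vector of the natural module `F⁴` has order dividing 4.
-/
import Mathlib
import Cfsg.Agent.Lib.Helper3.Sz29
import Cfsg.Agent.Lib.Helper3.Sz21

set_option autoImplicit false

namespace Cfsg.Agent.Lib.Helper1.PGraph

open Cfsg.Agent.Lib.Helper3.Sz Matrix

variable {F : Type*} [Field F] [CharP F 2] (T : Tits F)

local notation "SL4" => Matrix.SpecialLinearGroup (Fin 4) F
local notation "V4" => Fin 4 → F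

theorem theta_mul_sq_ne_one {k : Fˣ} (hk : k ≠ 1) : T.θ k * (k : F) ^ 2 ≠ 1 := by
  intro h
  apply hk
  apply units_norm_sq_eq_one T
  have h2 := congrArg T.θ h
  rw [map_mul, map_pow, T.sq, map_one] at h2
  rw [← h2]; ring

theorem theta_ne_one {k : Fˣ} (hk : k ≠ 1) : T.θ k ≠ 1 := by
  intro h
  apply hk
  apply Units.ext
  apply T.injective
  rw [h, Units.val_one, map_one]

theorem eq_zero_of_mul_eq {d x : F} (hd : d ≠ 1) (h : d * x = x) : x = 0 := by
  by_contra hx
  apply hd
  exact mul_right_cancel₀ hx (by rw [h, one_mul])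

/-- a nontrivial element of the split torus fixes no nonzero vector -/
theorem hG_no_fixed {k : Fˣ} (hk : k ≠ 1) {v : V4} (hv : hG T k • v = v) : v = 0 := by
  rw [smul_vec, coe_hG] at hv
  have h0 := congrFun hv 0
  have h1 := congrFun hv 1
  have h2 := congrFun hv 2
  have h3 := congrFun hv 3
  simp [hM, Matrix.mulVec, dotProduct, Fin.sum_univ_four] at h0 h1 h2 h3
  have d0 := theta_mul_sq_ne_one T hk
  have d1 := theta_ne_one T hk
  have d2 : (T.θ k)⁻¹ ≠ 1 := fun h => d1 (inv_eq_one.mp h)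
  have d3 : (T.θ k * (k : F) ^ 2)⁻¹ ≠ 1 := fun h => d0 (inv_eq_one.mp h)
  funext i
  fin_cases i
  · exact eq_zero_of_mul_eq d0 h0
  · exact eq_zero_of_mul_eq d1 h1
  · exact eq_zero_of_mul_eq d2 h2
  · exact eq_zero_of_mul_eq d3 (by simpa [mul_inv, mul_comm, mul_assoc] using h3)

/-- an element of the Suzuki group fixing a nonzero vector has order dividing 4 -/
theorem fix_order_dvd_four [Fintype F] (hT : T.IsPow) {g : Gam T} {v : V4} (hv : v ≠ 0)
    (hg : g • v = v) : orderOf g ∣ 4 := by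
  obtain ⟨x, hx⟩ := conj_mem_borel_of_fix T hT hv hg
  have hord : orderOf (x⁻¹ * g * x) = orderOf g := by
    have := MulEquiv.orderOf_eq (MulAut.conj x⁻¹) g
    simpa using this
  obtain ⟨a, b, k, hk⟩ := borel_decomp T hT (show (x⁻¹ * g * x) • oInf T = oInf T from hx)
  by_cases h1 : k = 1
  · subst h1
    rw [hG_one, mul_one] at hk
    rw [← hord, hk]
    exact orderOf_dvd_of_pow_eq_one (uG_pow_four T a b)
  · obtain ⟨x0, y0, hfix⟩ := exists_fix_of_borel T (a := a) (b := b) h1
    rw [← hk] at hfix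
    have hz : uG T x0 y0 • oPt T 0 0 = oPt T x0 y0 := uG_smul_oPt_zero T x0 y0
    have hz' : (uG T x0 y0)⁻¹ • oPt T x0 y0 = oPt T 0 0 := by rw [← hz, inv_smul_smul]
    have hzi : (uG T x0 y0)⁻¹ • oInf T = oInf T := by
      rw [inv_smul_eq_iff, uG_smul_oInf]
    have e0 : ((uG T x0 y0)⁻¹ * (x⁻¹ * g * x) * uG T x0 y0) • oInf T = oInf T := by
      rw [mul_smul, mul_smul, uG_smul_oInf, show (x⁻¹ * g * x) • oInf T = oInf T from hx, hzi]
    have e1 : ((uG T x0 y0)⁻¹ * (x⁻¹ * g * x) * uG T x0 y0) • oPt T 0 0 = oPt T 0 0 := by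
      rw [mul_smul, mul_smul, hz, hfix, hz']
    obtain ⟨k', hk'⟩ := key_lemma_G T hT e0 e1
    by_cases h2 : k' = 1
    · subst h2
      rw [hG_one] at hk'
      have : g = 1 := by
        have h3 : x⁻¹ * g * x = 1 := by
          have := congrArg (fun t => uG T x0 y0 * t * (uG T x0 y0)⁻¹) hk'
          simpa [mul_assoc] using this
        have := congrArg (fun t => x * t * x⁻¹) h3
        simpa [mul_assoc] using this
      rw [this, orderOf_one]
      exact one_dvd 4
    · exfalso
      apply hv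
      have hw : hG T k' • ((uG T x0 y0)⁻¹ • x⁻¹ • v) = (uG T x0 y0)⁻¹ • x⁻¹ • v := by
        rw [← hk', mul_smul, mul_smul, smul_inv_smul, mul_smul, mul_smul, smul_inv_smul, hg]
      have h0 := hG_no_fixed T h2 hw
      rw [Subgroup.smul_def, smul_eq_zero_iff_eq, Subgroup.smul_def, smul_eq_zero_iff_eq] at h0
      exact h0

end Cfsg.Agent.Lib.Helper1.PGraph
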